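import Groth.Agent.Vancyc.H241.CohSplit
import Groth.Agent.Sga67.SerreVB2
import Groth.Agent.VarietyB.HHPush
import Groth.Agent.DelIll.K776.Intf

/-!
# Cohomology of a quasi-coherent module on a finite disjoint union of opens

`projective_HH`: if `Y` is the disjoint union of the ranges of the open immersions `i j : Z j ⟶ Y` (`j` in a finite
type) and `F` is quasi-coherent, then `H^n(Y, F)` is projective over the base ring as soon as all `H^n(Z j, F)` are.

Author: helper295
-/

set_option autoImplicit false
set_option linter.unusedSectionVars false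
set_option linter.style.haveILetI false
universe u

open CategoryTheory CategoryTheory.Limits AlgebraicGeometry Opposite TopologicalSpace
open AlgebraicGeometry.Scheme.Modules

namespace K295.ClopenHH

open Groth.Agent.Vancyc.H241 (CohSplit.subsingleton_bot CohSplit.isZero_of_sections)

section Abs

variable {C : Type*} [Category* C] [Preadditive C] [HasFiniteBiproducts C]

theorem isIso_lift_of {J : Type} [Fintype J] {A : C} {B : J → C} (f : ∀ j, A ⟶ B j) (e : J) (he : IsIso (f e))
    (hB : ∀ j, j ≠ e → IsZero (B j)) : IsIso (biproduct.lift f) := by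
  refine ⟨biproduct.π B e ≫ inv (f e), by simp, ?_⟩
  apply biproduct.hom_ext
  intro j
  by_cases hj : j = e
  · subst hj
    simp
  · exact (hB j hj).eq_of_tgt _ _

end Abs

attribute [local instance] Abelian.hasFiniteBiproducts

section Un

variable {Y Z Z' : Scheme.{u}} (i : Z ⟶ Y) [IsOpenImmersion i] (i' : Z' ⟶ Y) [IsOpenImmersion i']

/-- `M ⟶ i_* i^* M`. -/
noncomputable abbrev un (M : Y.Modules) : M ⟶ (pushforward i).obj (M.restrict i) :=
  (restrictAdjunction i).unit.app M

instance isIso_restrict_un (M : Y.Modules) : IsIso ((restrictFunctor i).map (un i M)) := by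
  have h := (restrictAdjunction i).left_triangle_components M
  have h2 : IsIso ((restrictFunctor i).map (un i M) ≫
      (restrictAdjunction i).counit.app ((restrictFunctor i).obj M)) := by
    rw [h]
    infer_instance
  exact IsIso.of_isIso_comp_right _ ((restrictAdjunction i).counit.app ((restrictFunctor i).obj M))

theorem isZero_restrict_push (hd : Disjoint (Set.range i) (Set.range i')) (N : Z'.Modules) :
    IsZero (((pushforward i').obj N).restrict i) := by
  apply CohSplit.isZero_of_sections
  intro W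
  apply CohSplit.subsingleton_bot N (i' ⁻¹ᵁ (i ''ᵁ W))
  rw [eq_bot_iff]
  rintro x ⟨y, -, hy⟩
  exact Set.disjoint_left.1 hd ⟨y, hy⟩ ⟨x, rfl⟩

end Un

variable {Y : Scheme.{u}} {J : Type} [Fintype J] {Z : J → Scheme.{u}} (i : ∀ j, Z j ⟶ Y) [∀ j, IsOpenImmersion (i j)]

theorem isIso_lift_fin (hU : ∀ y : Y, ∃ j, y ∈ Set.range (i j))
    (hd : ∀ j j', j ≠ j' → Disjoint (Set.range (i j)) (Set.range (i j'))) (M : Y.Modules) :
    IsIso (biproduct.lift fun j => un (i j) M) := by
  apply Groth.Agent.PerfA.Restrict.isIso_of_restrict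
  intro x
  obtain ⟨e, y, hy⟩ := hU x
  refine ⟨Z e, i e, inferInstance, y, hy, ?_⟩
  have h1 := biproduct.map_lift_mapBiprod (restrictFunctor (i e))
    (fun j => (pushforward (i j)).obj (M.restrict (i j))) (fun j => un (i j) M)
  have h2 : IsIso (biproduct.lift fun j => (restrictFunctor (i e)).map (un (i j) M)) :=
    isIso_lift_of _ e inferInstance fun j hj => isZero_restrict_push (i e) (i j) (hd e j (Ne.symm hj)) _
  rw [← h1] at h2
  exact IsIso.of_isIso_comp_right _ ((restrictFunctor (i e)).mapBiproduct _).hom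

/-- `M ≅ ⨁ (i j)_* (i j)^* M`. -/
noncomputable def splitFin (hU : ∀ y : Y, ∃ j, y ∈ Set.range (i j))
    (hd : ∀ j j', j ≠ j' → Disjoint (Set.range (i j)) (Set.range (i j'))) (M : Y.Modules) :
    M ≅ ⨁ fun j => (pushforward (i j)).obj (M.restrict (i j)) :=
  have := isIso_lift_fin i hU hd M
  asIso (biproduct.lift fun j => un (i j) M)

theorem isClosedImmersion_fin (hU : ∀ y : Y, ∃ j, y ∈ Set.range (i j))
    (hd : ∀ j j', j ≠ j' → Disjoint (Set.range (i j)) (Set.range (i j'))) (j : J) :
    IsClosedImmersion (i j) := by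
  apply IsClosedImmersion.of_isPreimmersion (i j)
  have h : Set.range (i j) = (⋃ j' : {j' // j' ≠ j}, Set.range (i j'.1))ᶜ := by
    apply Set.Subset.antisymm
    · intro x hx hx'
      obtain ⟨⟨j', hj'⟩, h3⟩ := Set.mem_iUnion.1 hx'
      exact Set.disjoint_left.1 (hd j j' (Ne.symm hj')) hx h3
    · intro x hx
      obtain ⟨j', hj'⟩ := hU x
      by_cases h : j' = j
      · exact h ▸ hj'
      · exact (hx (Set.mem_iUnion.2 ⟨⟨j', h⟩, hj'⟩)).elim
  rw [h]
  exact (isOpen_iUnion fun j' : {j' // j' ≠ j} => (i j'.1).isOpenEmbedding.isOpen_range).isClosed_compl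

/-- Projectivity of the cohomology of a disjoint union. -/
theorem projective_HH {R : Type u} [CommRing R] (f : Y ⟶ Spec (CommRingCat.of R))
    (hU : ∀ y : Y, ∃ j, y ∈ Set.range (i j))
    (hd : ∀ j j', j ≠ j' → Disjoint (Set.range (i j)) (Set.range (i j'))) (F : Y.Modules) (hF : Coh.IsQCoh F) (n : ℕ)
    (h : ∀ j, letI := K776.Intf.modHH (i j ≫ f) (F.restrict (i j)) n
      Module.Projective R (Coh.HH (Z j) (F.restrict (i j)) n)) :
    letI := K776.Intf.modHH f F n
    Module.Projective R (Coh.HH Y F n) := by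
  letI : Y.Over (Spec (CommRingCat.of R)) := ⟨f⟩
  letI : ∀ j, (Z j).Over (Spec (CommRingCat.of R)) := fun j => ⟨i j ≫ f⟩
  have h1 : ∀ j, Module.Projective R (Coh.HH Y ((Coh.push (i j)).obj (F.restrict (i j))) n) := by
    intro j
    have hc := isClosedImmersion_fin i hU hd j
    obtain ⟨e⟩ := Groth.Agent.VarietyB.HHPush.exists_linearEquiv (i j) R rfl (F.restrict (i j))
      (Groth.Agent.PerfA.QCohSerre.isQCoh_restrict _ hF) n
    have := h j
    exact Module.Projective.of_equiv e.symm
  have e2 := (Groth.Agent.Sga67.SerreVB2.hiso R (splitFin i hU hd F) n).trans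
    (Groth.Agent.Sga67.SerreVB2.hbiprod R (fun j => (pushforward (i j)).obj (F.restrict (i j))) n)
  have h3 : Module.Projective R (∀ j, Coh.HH Y ((pushforward (i j)).obj (F.restrict (i j))) n) := by
    have := h1
    exact Module.Projective.of_equiv DFinsupp.linearEquivFunOnFintype
  exact Module.Projective.of_equiv e2.symm

end K295.ClopenHH
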