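import Groth.Agent.DelIll.K295.FASetup
import Groth.Agent.DelIll.K295.ClopenHH
import Groth.Agent.DeRhamSh.K853.Terms
import Groth.Agent.Smoothlim.ConormalRes
import Groth.Agent.Dual.H375.ExtRestr
import Groth.Agent.Ega3B.RpushAff
import Groth.Agent.Sga4B.RelDimUnique
import Groth.Agent.Dcoh.PushFLF304
import Groth.Agent.S0002

/-!
# (FA): reduction of S19531 to an affine base and constant relative dimension

`main : K776.Intf.FAStmt`.

Author: helper295
-/

set_option autoImplicit false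
set_option linter.unusedSectionVars false
universe u

open CategoryTheory CategoryTheory.Limits AlgebraicGeometry Opposite TopologicalSpace
open Groth.Agent.Sga67.Sec Groth.Agent.Sga67.LocBasis Groth.Agent.Sga67.ExtSheaf

namespace K295.FA

open K224.RelBase K776.Intf K295.FASetup

section Dim

variable {X S : Scheme.{u}} (f : X ⟶ S)

/-- If the `k`-th exterior power of the differentials vanishes, the relative dimension is `< k` everywhere. -/
theorem exists_lt [QuasiSeparated f] [Smooth f] {k : ℕ} {L : X.Modules} (hL : ExtPow.IsExtPow k (Omega.sheaf f) L)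
    (hz : IsZero L) (x : X) :
    ∃ (d : ℕ) (U : X.Opens), x ∈ U ∧ d < k ∧ SmoothOfRelativeDimension d (U.ι ≫ f) := by
  obtain ⟨d, U, hx, hs, hn⟩ := K853.Terms.exists_relChart f x
  refine ⟨d, U, hx, ?_, hs⟩
  by_contra hd
  obtain ⟨φ, hφ⟩ := exists_phi hL
  obtain ⟨b, hb⟩ := nonempty_restrict_iso_iff.mp hn
  obtain ⟨_, ⟨W, rfl⟩, hxW, hW⟩ := Opens.isBasis_iff_nbhd.mp (affineBasis X) hx
  have h1 := isLocBasis_extPow φ hφ (U := W) (hb.restrict hW) W.1 le_rfl
  obtain ⟨J⟩ : Nonempty (Set.powersetCard (Fin d) k) := by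
    obtain ⟨t, ht⟩ := Finset.exists_subset_card_eq (s := (Finset.univ : Finset (Fin d))) (n := k)
      (by rw [Finset.card_fin]; omega)
    exact ⟨⟨t, ht.2⟩⟩
  have h2 : Subsingleton (Sec L W.1) := by
    refine ⟨fun s t => ?_⟩
    have h3 : 𝟙 L = 0 := hz.eq_of_src _ _
    have h4 : ∀ s : Sec L W.1, s = 0 := fun s => by
      have h5 := congrArg (fun φ => appS φ W.1 s) h3
      rwa [appS_id, appS_zero] at h5
    rw [h4 s, h4 t]
  have h6 : Nonempty W.1 := ⟨⟨x, hxW⟩⟩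
  have h7 : Nontrivial Γ(X, W.1) := inferInstance
  have h8 := h1.1 (h2.elim (comb _ le_rfl fun _ => (1 : Γ(X, W.1))) (comb _ le_rfl fun _ => (0 : Γ(X, W.1))))
  exact one_ne_zero (congrFun h8 J)

/-- The locus of relative dimension `d`. -/
noncomputable def locus (d : ℕ) : X.Opens := ⨆ U : {U : X.Opens // SmoothOfRelativeDimension d (U.ι ≫ f)}, U.1

theorem smooth_of_le {d : ℕ} {U W : X.Opens} (h : W ≤ U) (hU : SmoothOfRelativeDimension d (U.ι ≫ f)) :
    SmoothOfRelativeDimension d (W.ι ≫ f) := by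
  have h1 : W.ι ≫ f = X.homOfLE h ≫ U.ι ≫ f := by rw [← Category.assoc, Scheme.homOfLE_ι]
  rw [h1]
  have h2 : SmoothOfRelativeDimension (0 + d) (X.homOfLE h ≫ U.ι ≫ f) := inferInstance
  rwa [zero_add] at h2

theorem smooth_locus (d : ℕ) : SmoothOfRelativeDimension d ((locus f d).ι ≫ f) := by
  let I := {U : X.Opens // SmoothOfRelativeDimension d (U.ι ≫ f)}
  refine IsZariskiLocalAtSource.of_iSup_eq_top (P := @SmoothOfRelativeDimension d)
    (fun U : I => (locus f d).ι ⁻¹ᵁ U.1) ?_ ?_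
  · rw [eq_top_iff]
    rintro ⟨x, hx⟩ _
    obtain ⟨U, hU⟩ := Opens.mem_iSup.1 hx
    exact Opens.mem_iSup.2 ⟨U, hU⟩
  · rintro ⟨U, hU⟩
    have h1 : ((locus f d).ι ⁻¹ᵁ U).ι ≫ (locus f d).ι ≫ f = ((locus f d).ι ∣_ U) ≫ U.ι ≫ f := by
      rw [← Category.assoc, ← morphismRestrict_ι, Category.assoc]
    change SmoothOfRelativeDimension d (((locus f d).ι ⁻¹ᵁ U).ι ≫ (locus f d).ι ≫ f)
    rw [h1]
    have h2 : SmoothOfRelativeDimension (0 + d) (((locus f d).ι ∣_ U) ≫ U.ι ≫ f) := inferInstance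
    rwa [zero_add] at h2

theorem disjoint_locus {d e : ℕ} (hde : d ≠ e) : Disjoint (locus f d : Set X) (locus f e : Set X) := by
  rw [Set.disjoint_left]
  intro x hd he
  obtain ⟨⟨U, hU⟩, hxU⟩ := Opens.mem_iSup.1 hd
  obtain ⟨⟨V, hV⟩, hxV⟩ := Opens.mem_iSup.1 he
  have : Nonempty (U ⊓ V : X.Opens).toScheme := ⟨⟨x, hxU, hxV⟩⟩
  exact hde (Groth.Agent.Sga4B.RelDimUnique.eq_of_smoothOfRelativeDimension ((U ⊓ V).ι ≫ f) d e
    (smooth_of_le f inf_le_left hU) (smooth_of_le f inf_le_right hV))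

end Dim

section ExtIso

variable {X : Scheme.{u}}

theorem isExtPow_of_iso_left {i : ℕ} {E E' L : X.Modules} (e : E ≅ E')
    (h : ExtPow.IsExtPow i E L) : ExtPow.IsExtPow i E' L := by
  obtain ⟨φ, hφ⟩ := exists_phi h
  let ε : ∀ U : X.affineOpens, (⋀[Γ(X, U.1)]^i (Sec E U.1)) ≃ₗ[Γ(X, U.1)]
      (⋀[Γ(X, U.1)]^i (Sec E' U.1)) := fun U =>
    LinearEquiv.ofLinearMap (exteriorPower.map i (appS e.hom U.1))
      (exteriorPower.map i (appS e.inv U.1))
      (by
        rw [← exteriorPower.map_comp, ← exteriorPower.map_id]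
        congr 1
        ext s
        exact appS_inv_hom e U.1 s)
      (by
        rw [← exteriorPower.map_comp, ← exteriorPower.map_id]
        congr 1
        ext s
        exact appS_hom_inv e U.1 s)
  have hε : ∀ (U : X.affineOpens) (s : Fin i → Sec E' U.1),
      (ε U).symm (exteriorPower.ιMulti _ i s) =
        exteriorPower.ιMulti _ i (fun j => appS e.inv U.1 (s j)) := by
    intro U s
    show exteriorPower.map i (appS e.inv U.1) _ = _
    rw [exteriorPower.map_apply_ιMulti]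
    rfl
  refine ⟨fun U => (φ U).trans (ε U), fun U V h s => ?_⟩
  show res L h ((φ U).symm ((ε U).symm (exteriorPower.ιMulti _ i s))) =
    (φ V).symm ((ε V).symm (exteriorPower.ιMulti _ i (fun j => res E' h (s j))))
  rw [hε, hε]
  refine (hφ U V h _).trans ?_
  simp only [appS_res]

theorem isExtPow_of_iso {i : ℕ} {E L L' : X.Modules} (h : ExtPow.IsExtPow i E L) (e : L ≅ L') :
    ExtPow.IsExtPow i E L' := by
  obtain ⟨φ, hφ⟩ := exists_phi h
  let ε : ∀ U : X.affineOpens, Sec L' U.1 ≃ₗ[Γ(X, U.1)] Sec L U.1 := fun U =>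
    { (appS e.inv U.1) with
      invFun := appS e.hom U.1
      left_inv := fun s => by simp
      right_inv := fun s => by simp }
  refine ⟨fun U => (ε U).trans (φ U), ?_⟩
  intro U V h e'
  have h1 := hφ U V h e'
  have h2 := appS_res e.hom h ((φ U).symm (exteriorPower.ιMulti _ i e'))
  rw [h1] at h2
  exact h2.symm

end ExtIso

/-- The ring homomorphism of the statement. -/
noncomputable abbrev ψ (p : ℕ) : ULift.{u} (ZMod (p ^ 2)) →+* ULift.{u} (ZMod p) :=
  (ZMod.castHom (dvd_pow_self p two_ne_zero) (ULift.{u} (ZMod p))).comp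
    (ULift.ringEquiv : ULift.{u} (ZMod (p ^ 2)) ≃+* ZMod (p ^ 2)).toRingHom

theorem ψ_eq (p : ℕ) : ψ.{u} p = φ₀.{u} p := by
  have h : (ψ.{u} p).comp (ULift.ringEquiv : ULift.{u} (ZMod (p ^ 2)) ≃+* ZMod (p ^ 2)).symm.toRingHom =
      (φ₀.{u} p).comp (ULift.ringEquiv : ULift.{u} (ZMod (p ^ 2)) ≃+* ZMod (p ^ 2)).symm.toRingHom :=
    Subsingleton.elim _ _
  ext x
  exact congrArg ULift.down (congr($h (ULift.ringEquiv x)))

theorem isLft_ψ (p : ℕ) [Fact p.Prime] : IsLft p (ψ.{u} p) := ψ_eq.{u} p ▸ isLft_φ₀ p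

section Local

variable {X S : Scheme.{u}} (f : X ⟶ S) [QuasiSeparated f] {V : S.Opens} (hV : IsAffineOpen V) {W : X.Opens}
  (hW : W ≤ f ⁻¹ᵁ V)

/-- The differentials of the restriction. -/
noncomputable def omIso : (Omega.sheaf f).restrict W.ι ≅ Omega.sheaf (st f hV hW) :=
  (Scheme.Modules.restrictFunctorIsoPullback W.ι).app _ ≪≫
    Groth.Agent.Smoothlim.ConormalRes.omegaRestrictIso (f := f) (f' := st f hV hW) (j := W.ι) (l := hV.fromSpec)
      (st_fromSpec f hV hW).symm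

/-- Restriction in two steps. -/
noncomputable def resIso (M : X.Modules) :
    M.restrict W.ι ≅ (M.restrict (f ⁻¹ᵁ V).ι).restrict (X.homOfLE hW) :=
  (Scheme.Modules.restrictFunctorCongr (X.homOfLE_ι hW).symm).app M ≪≫
    (Scheme.Modules.restrictFunctorComp (X.homOfLE hW) (f ⁻¹ᵁ V).ι).app M

theorem isExtPow_res {a : ℕ} {L : X.Modules} (h : ExtPow.IsExtPow a (Omega.sheaf f) L) :
    ExtPow.IsExtPow a (Omega.sheaf (st f hV hW)) ((L.restrict (f ⁻¹ᵁ V).ι).restrict (X.homOfLE hW)) :=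
  isExtPow_of_iso_left (omIso f hV hW) (isExtPow_of_iso (Groth.Agent.Dual.H375.ExtRestr.isExtPow_restrict W h)
    (resIso f hW L))

end Local

section Main

variable {p : ℕ} [hp : Fact p.Prime] {A₀ B₀ : Type u} [CommRing A₀] [CommRing B₀] {φ : A₀ →+* B₀} (hφ : IsLft p φ)
  {Sl S : Scheme.{u}} {gS : Sl ⟶ Spec (CommRingCat.of A₀)} [Flat gS] {iS : S ⟶ Sl}
  {fS : S ⟶ Spec (CommRingCat.of B₀)} (hS : IsPullback iS fS gS (Spec.map (CommRingCat.ofHom φ)))
  [FrobSch.IsCharP S p] {X : Scheme.{u}} (f : X ⟶ S) [Smooth f] [IsProper f] {Xl : Scheme.{u}} {g : Xl ⟶ Sl} [Flat g]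
  {j : FrobSch.frobTwist f p ⟶ Xl} (hl : IsPullback j (pullback.snd f (FrobSch.frob S p)) g iS)

include hφ hS hl in
/-- Projectivity over an affine open of the base. -/
theorem projective_of_affine (hA : AffMain.{u}) {Om : ℕ → X.Modules}
    (hOm : ∀ a, ExtPow.IsExtPow a (Omega.sheaf f) (Om a)) (hz : IsZero (Om (p + 1))) {V : S.Opens}
    (hV : IsAffineOpen V) [IsNoetherianRing Γ(S, V)] [CharP Γ(S, V) p] (a b : ℕ) (hq : Coh.IsQCoh (Om a)) :
    letI := modHH ((f ∣_ V) ≫ hV.isoSpec.hom) ((Om a).restrict (f ⁻¹ᵁ V).ι) b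
    Module.Projective Γ(S, V) (Coh.HH (f ⁻¹ᵁ V).toScheme ((Om a).restrict (f ⁻¹ᵁ V).ι) b) := by
  have hle : ∀ d : Fin (p + 1), locus f d.1 ⊓ f ⁻¹ᵁ V ≤ f ⁻¹ᵁ V := fun d => inf_le_right
  have hst : ∀ d : Fin (p + 1), X.homOfLE (hle d) ≫ (f ∣_ V) ≫ hV.isoSpec.hom = st f hV (hle d) := by
    intro d
    rw [← cancel_mono hV.fromSpec, st_fromSpec, Category.assoc, Category.assoc, isoSpec_hom_fromSpec,
      morphismRestrict_ι, ← Category.assoc, Scheme.homOfLE_ι]
  have hran : ∀ d : Fin (p + 1), Set.range (X.homOfLE (hle d)) =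
      ((f ⁻¹ᵁ V).ι ⁻¹ᵁ (locus f d.1 ⊓ f ⁻¹ᵁ V) : (f ⁻¹ᵁ V).toScheme.Opens) := by
    intro d
    have h1 := Scheme.opensRange_homOfLE (hle d)
    rw [← h1]
    rfl
  have hU : ∀ y : (f ⁻¹ᵁ V).toScheme, ∃ d : Fin (p + 1), y ∈ Set.range (X.homOfLE (hle d)) := by
    intro y
    obtain ⟨d, U, hx, hd, hs⟩ := exists_lt f (hOm (p + 1)) hz y.1
    refine ⟨⟨d, hd⟩, ?_⟩
    rw [hran]
    exact ⟨Opens.mem_iSup.2 ⟨⟨U, hs⟩, hx⟩, y.2⟩
  have hd : ∀ d e : Fin (p + 1), d ≠ e →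
      Disjoint (Set.range (X.homOfLE (hle d))) (Set.range (X.homOfLE (hle e))) := by
    intro d e hde
    rw [hran, hran, Set.disjoint_left]
    rintro y ⟨hy1, -⟩ ⟨hy2, -⟩
    exact Set.disjoint_left.1 (disjoint_locus f fun h => hde (Fin.ext h)) hy1 hy2
  refine K295.ClopenHH.projective_HH (J := Fin (p + 1)) (fun d => X.homOfLE (hle d)) _ hU hd _
    (Groth.Agent.PerfA.QCohSerre.isQCoh_restrict _ hq) b fun d => ?_
  obtain ⟨Vl, hVl, eV⟩ := exists_Vl hφ hS hV
  obtain ⟨O, hO, hO'⟩ := exists_open hφ hS f hl eV (hle d)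
  have hc := K295.ClopenHH.isClosedImmersion_fin (fun d : Fin (p + 1) => X.homOfLE (hle d)) hU hd d
  have hp1 : IsProper (st f hV (hle d)) := by
    rw [← hst]
    infer_instance
  have hs : SmoothOfRelativeDimension d.1 (st f hV (hle d)) := by
    have h1 : SmoothOfRelativeDimension d.1 (st f hV (hle d) ≫ hV.fromSpec) := by
      rw [st_fromSpec]
      exact smooth_of_le f inf_le_left (smooth_locus f d.1)
    have := smoothOfRelativeDimension_isStableUnderBaseChange d.1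
    exact MorphismProperty.of_postcomp (W := @SmoothOfRelativeDimension d.1) (W' := @IsOpenImmersion)
      (st f hV (hle d)) hV.fromSpec inferInstance h1
  have h2 := hA p Γ(S, V) (setup hφ hS f hl hV hVl eV (hle d) O hO hO' d.1 hp1 hs
    (fun a => ((Om a).restrict (f ⁻¹ᵁ V).ι).restrict (X.homOfLE (hle d)))
    (fun a => isExtPow_res f hV (hle d) (hOm a))) (Nat.lt_succ_iff.1 d.2) a b
  rw [hst]
  exact h2

end Main

/-- **(FA)** -/
theorem main : FAStmt.{u} := by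
  intro hA p hp Sl gS hgS S iS fS hS hN hC X f hsm hpr Om hOm hz Xl g hg j hl hI a b
  have hΩ : FlatMod.IsFinLocFree (Omega.sheaf f) := K853.Terms.isFinLocFree_omega f
  have hL : FlatMod.IsFinLocFree (Om a) := Groth.Agent.Sga67.LocBasis.isFinLocFree_of_isExtPow hΩ (hOm a)
  have hcoh : Coh.IsCoh (Om a) := Groth.Agent.PerfA.CohSerre.isCoh_of_isFinLocFree hL
  have hq : Coh.IsQCoh (Om a) := hcoh.1
  refine Groth.Agent.Dcoh.PushFLF304.isFinLocFree_of_sections (Groth.Agent.CohqA.RelCoh.isQCoh_Rpush f _ hq b)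
    (fun V => (V : Set S).Nonempty) (fun x => ?_) fun V hVn hV => ?_
  · obtain ⟨_, ⟨V, rfl⟩, hxV, -⟩ := Opens.isBasis_iff_nbhd.mp (affineBasis S) (show x ∈ (⊤ : S.Opens) from trivial)
    exact ⟨V.1, ⟨x, hxV⟩, V.2, hxV⟩
  · have h1 : Nonempty V := hVn.to_subtype
    have h2 : Nontrivial Γ(S, V) := inferInstance
    have h3 : CharP Γ(S, V) p := (CharP.charP_iff_prime_eq_zero Fact.out).2 (FrobSch.natCast_eq_zero_app S p V)
    have h4 : IsNoetherianRing Γ(S, V) := IsLocallyNoetherian.component_noetherian ⟨V, hV⟩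
    let iO : (f ⁻¹ᵁ V).toScheme.Over (Spec (CommRingCat.of Γ(S, V))) := ⟨(f ∣_ V) ≫ hV.isoSpec.hom⟩
    obtain ⟨e⟩ := Groth.Agent.Ega3B.RpushAff.exists_linearEquiv f (Om a) hq hV b
    have h5 : IsProper ((f ⁻¹ᵁ V).toScheme ↘ Spec (CommRingCat.of Γ(S, V))) :=
      inferInstanceAs (IsProper ((f ∣_ V) ≫ hV.isoSpec.hom))
    have h6 : Module.Finite Γ(S, V) (Coh.HH (f ⁻¹ᵁ V).toScheme ((Om a).restrict (f ⁻¹ᵁ V).ι) b) :=
      Groth.Agent.S0002.result Γ(S, V) _ _ (Groth.Agent.PerfA.CohSerre.isCoh_restrict _ hcoh) b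
    have h7 : Module.Projective Γ(S, V) (Coh.HH (f ⁻¹ᵁ V).toScheme ((Om a).restrict (f ⁻¹ᵁ V).ι) b) :=
      projective_of_affine (isLft_ψ.{u} p) hS f hl hA hOm hz hV a b hq
    exact ⟨Module.Finite.equiv e.symm, Module.Projective.of_equiv e.symm⟩

end K295.FA
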