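import Groth.Agent.DelIll.K776.Intf
import Groth.Agent.DelIll.K224.RelBase
import Groth.Agent.Flat2C.AffineThickening

/-!
# The local set-up of S19531: affine opens of the base, opens of the source

`setup`: from a lifting of the Frobenius twist over `Sl` one gets the data `K776.Intf.Setup p Γ(S, V)` for every affine
open `V` of `S` and every open `W ≤ f ⁻¹ V` of `X` which is proper and smooth of constant relative dimension over `V`.

Author: helper295
-/

set_option autoImplicit false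
set_option linter.unusedSectionVars false
universe u

open CategoryTheory CategoryTheory.Limits AlgebraicGeometry Opposite TopologicalSpace

namespace K295.FASetup

open K224.RelBase K776.Intf

section Gen

variable {X S : Scheme.{u}} (f : X ⟶ S) {V : S.Opens} (hV : IsAffineOpen V)

/-- The structure map of an open of the source over an affine open of the base. -/
noncomputable abbrev st {W : X.Opens} (h : W ≤ f ⁻¹ᵁ V) : W.toScheme ⟶ Spec (CommRingCat.of Γ(S, V)) :=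
  f.resLE V W h ≫ hV.isoSpec.hom

theorem isoSpec_hom_fromSpec : hV.isoSpec.hom ≫ hV.fromSpec = V.ι := by
  rw [← hV.isoSpec_inv_ι, Iso.hom_inv_id_assoc]

theorem st_fromSpec {W : X.Opens} (h : W ≤ f ⁻¹ᵁ V) : st f hV h ≫ hV.fromSpec = W.ι ≫ f := by
  rw [st, Category.assoc, isoSpec_hom_fromSpec, Scheme.Hom.resLE_comp_ι]

theorem resLE_isoSpec {U : X.Opens} (hU : IsAffineOpen U) (e : U ≤ f ⁻¹ᵁ V) :
    f.resLE V U e ≫ hV.isoSpec.hom = hU.isoSpec.hom ≫ Spec.map (f.appLE V U e) := by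
  rw [← cancel_mono hV.fromSpec]
  rw [Category.assoc, Category.assoc, isoSpec_hom_fromSpec, Scheme.Hom.resLE_comp_ι,
    IsAffineOpen.SpecMap_appLE_fromSpec f hV hU e, ← Category.assoc, isoSpec_hom_fromSpec]

end Gen

section Emb

variable {p : ℕ} {A₀ B₀ : Type u} [CommRing A₀] [CommRing B₀] {φ : A₀ →+* B₀} (hφ : IsLft p φ)
  {Sl S : Scheme.{u}} {gS : Sl ⟶ Spec (CommRingCat.of A₀)} {iS : S ⟶ Sl} {fS : S ⟶ Spec (CommRingCat.of B₀)}
  (hS : IsPullback iS fS gS (Spec.map (CommRingCat.ofHom φ)))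

include hφ hS in
theorem exists_Vl {V : S.Opens} (hV : IsAffineOpen V) : ∃ Vl : Sl.Opens, IsAffineOpen Vl ∧ iS ⁻¹ᵁ Vl = V := by
  have he := isOpenEmbedding hφ hS
  have hc := isClosedImmersion hφ hS
  have hs := surjective hφ hS
  let Vl : Sl.Opens := ⟨iS '' V, he.isOpenMap V V.2⟩
  have hVl : iS ⁻¹ᵁ Vl = V := by
    ext x
    exact ⟨fun ⟨y, hy, hxy⟩ => he.injective hxy ▸ hy, fun hx => ⟨x, hx, rfl⟩⟩
  refine ⟨Vl, ?_, hVl⟩
  have h1 : IsAffine (iS ⁻¹ᵁ Vl).toScheme := by rw [hVl]; exact hV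
  have h2 : Surjective (iS ∣_ Vl) := IsZariskiLocalAtTarget.restrict hs Vl
  exact Groth.Agent.Flat2C.AffineThickening.isAffine_of_thickening (iS ∣_ Vl)

variable {X' Xl : Scheme.{u}} {g : Xl ⟶ Sl} {j : X' ⟶ Xl} {q : X' ⟶ S} (hl : IsPullback j q g iS)

include hφ hS hl in
theorem exists_O (U : X'.Opens) : ∃ O : Xl.Opens, j ⁻¹ᵁ O = U ∧ ∀ z ∈ O, ∃ x ∈ U, j x = z := by
  have hc := isClosedImmersion hφ hS
  have hs := surjective hφ hS
  have hjc : IsClosedImmersion j := MorphismProperty.of_isPullback (P := @IsClosedImmersion) hl.flip hc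
  have hjs : Surjective j := MorphismProperty.of_isPullback (P := @Surjective) hl.flip hs
  have he : Topology.IsOpenEmbedding j :=
    j.isClosedEmbedding.isEmbedding.isOpenEmbedding_of_surjective j.surjective
  refine ⟨⟨j '' U, he.isOpenMap U U.2⟩, ?_, fun z hz => hz⟩
  ext x
  exact ⟨fun ⟨y, hy, hxy⟩ => he.injective hxy ▸ hy, fun hx => ⟨x, hx, rfl⟩⟩

end Emb

section Main

variable {p : ℕ} [hp : Fact p.Prime] {A₀ B₀ : Type u} [CommRing A₀] [CommRing B₀] {φ : A₀ →+* B₀} (hφ : IsLft p φ)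
  {Sl S : Scheme.{u}} {gS : Sl ⟶ Spec (CommRingCat.of A₀)} [Flat gS] {iS : S ⟶ Sl}
  {fS : S ⟶ Spec (CommRingCat.of B₀)} (hS : IsPullback iS fS gS (Spec.map (CommRingCat.ofHom φ)))
  [FrobSch.IsCharP S p] {X : Scheme.{u}} (f : X ⟶ S) {Xl : Scheme.{u}} {g : Xl ⟶ Sl} [Flat g]
  {j : FrobSch.frobTwist f p ⟶ Xl} (hl : IsPullback j (pullback.snd f (FrobSch.frob S p)) g iS)
  {V : S.Opens} (hV : IsAffineOpen V) [CharP Γ(S, V) p] {Vl : Sl.Opens} (hVl : IsAffineOpen Vl)
  (eV : iS ⁻¹ᵁ Vl = V) {W : X.Opens} (hW : W ≤ f ⁻¹ᵁ V)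

theorem frob_square : IsPullback ((FrobSch.frob S p).resLE V V le_rfl) hV.isoSpec.hom hV.isoSpec.hom
    (Spec.map (CommRingCat.ofHom (frobenius Γ(S, V) p))) := by
  refine IsPullback.of_vert_isIso ⟨?_⟩
  have h1 : (FrobSch.frob S p).appLE V V le_rfl = CommRingCat.ofHom (frobenius Γ(S, V) p) := by
    have h2 : S.presheaf.map (homOfLE (le_refl V)).op = 𝟙 _ := S.presheaf.map_id _
    ext s
    change (S.presheaf.map (homOfLE (le_refl V)).op).hom (s ^ p) = s ^ p
    rw [h2]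
    rfl
  rw [← h1]
  exact resLE_isoSpec (FrobSch.frob S p) hV hV le_rfl

/-- The open of the Frobenius twist over `W`. -/
noncomputable abbrev UY (V : S.Opens) (W : X.Opens) : (FrobSch.frobTwist f p).Opens :=
  pullback.fst f (FrobSch.frob S p) ⁻¹ᵁ W ⊓ pullback.snd f (FrobSch.frob S p) ⁻¹ᵁ V

theorem twist_square :
    IsPullback ((pullback.fst f (FrobSch.frob S p)).resLE W (UY (p := p) f V W) inf_le_left)
      ((pullback.snd f (FrobSch.frob S p)).resLE V (UY (p := p) f V W) inf_le_right ≫ hV.isoSpec.hom)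
      (st f hV hW) (Spec.map (CommRingCat.ofHom (frobenius Γ(S, V) p))) := by
  have h1 := Scheme.Hom.isPullback_resLE (IsPullback.of_hasPullback f (FrobSch.frob S p)) (US := V) (UT := V)
    (UX := W) (UY := UY (p := p) f V W) (le_refl V) hW rfl
  exact h1.paste_vert (frob_square hV)

include hl in
theorem lift_square (O : Xl.Opens) (hO : j ⁻¹ᵁ O = UY (p := p) f V W) (hO' : O ≤ g ⁻¹ᵁ Vl) :
    IsPullback (j.resLE O (UY (p := p) f V W) hO.ge)
      ((pullback.snd f (FrobSch.frob S p)).resLE V (UY (p := p) f V W) inf_le_right ≫ hV.isoSpec.hom)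
      (g.resLE Vl O hO' ≫ hVl.isoSpec.hom) (Spec.map (iS.appLE Vl V eV.ge)) := by
  have h1 := Scheme.Hom.isPullback_resLE hl (US := Vl) (UT := V) (UX := O) (UY := UY (p := p) f V W) eV.ge hO'
    (by rw [hO, inf_assoc, inf_idem])
  refine h1.paste_vert (IsPullback.of_vert_isIso ⟨?_⟩)
  exact resLE_isoSpec iS hVl hV eV.ge

include hφ hS hl hW eV in
theorem exists_open : ∃ O : Xl.Opens, j ⁻¹ᵁ O = UY (p := p) f V W ∧ O ≤ g ⁻¹ᵁ Vl := by
  obtain ⟨O, h1, h2⟩ := exists_O hφ hS hl (UY (p := p) f V W)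
  refine ⟨O, h1, fun z hz => ?_⟩
  obtain ⟨x, hx, rfl⟩ := h2 z hz
  have h3 : g (j x) = iS (pullback.snd f (FrobSch.frob S p) x) := by
    rw [← Scheme.Hom.comp_apply, ← Scheme.Hom.comp_apply, hl.w]
  change g (j x) ∈ Vl
  rw [h3]
  have h4 : pullback.snd f (FrobSch.frob S p) x ∈ iS ⁻¹ᵁ Vl := by
    rw [eV]
    exact hx.2
  exact h4

/-- The set-up over `Γ(S, V)`. -/
noncomputable def setup (O : Xl.Opens) (hO : j ⁻¹ᵁ O = UY (p := p) f V W) (hO' : O ≤ g ⁻¹ᵁ Vl) (d : ℕ)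
    (hp1 : IsProper (st f hV hW)) (hs : SmoothOfRelativeDimension d (st f hV hW)) (Om : ℕ → W.toScheme.Modules)
    (hOm : ∀ a, ExtPow.IsExtPow a (Omega.sheaf (st f hV hW)) (Om a)) : Setup p Γ(S, V) where
  Rt := Γ(Sl, Vl)
  π := (iS.appLE Vl V eV.ge).hom
  surj := (isLft_sec hφ hS hVl eV eV.ge).surj
  ker r := by
    have h := isLft_sec hφ hS hVl eV eV.ge
    constructor
    · intro hr
      obtain ⟨c, hc⟩ := h.ker r hr
      exact ⟨c, by rw [hc, nsmul_eq_mul]⟩
    · rintro ⟨b, rfl⟩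
      rw [← nsmul_eq_mul]
      exact h.θ_p b
  pp := (isLft_sec hφ hS hVl eV eV.ge).pp
  flat b hb := (isLft_sec hφ hS hVl eV eV.ge).tor b (by rw [nsmul_eq_mul, hb])
  X := W.toScheme
  f := st f hV hW
  d := d
  X' := (UY (p := p) f V W).toScheme
  w := (pullback.fst f (FrobSch.frob S p)).resLE W (UY (p := p) f V W) inf_le_left
  f' := (pullback.snd f (FrobSch.frob S p)).resLE V (UY (p := p) f V W) inf_le_right ≫ hV.isoSpec.hom
  hX' := twist_square f hV hW
  Xl' := O.toScheme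
  g' := g.resLE Vl O hO' ≫ hVl.isoSpec.hom
  flat' := inferInstance
  j' := j.resLE O (UY (p := p) f V W) hO.ge
  hlift := lift_square f hl hV hVl eV O hO hO'
  Om := Om
  hOm := hOm

end Main

end K295.FASetup
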